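import Groth.Prelude.Def_TopMod
import Groth.Prelude.Def_LinTop
import Mathlib.Algebra.Module.Projective
import Mathlib.RingTheory.Ideal.Quotient.Operations
import Mathlib.LinearAlgebra.Quotient.Basic
import Mathlib.RingTheory.Nilpotent.Basic
import Mathlib.Topology.Algebra.IsUniformGroup.Basic

/-!
# Formally left invertible maps of linearly topologized modules
-/

set_option autoImplicit false

universe u v w

namespace Groth.Agent.Lib.TopModFLI

open TopMod Filter Topology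

variable {A : Type u} {M : Type v} {N : Type w} [CommRing A] [AddCommGroup M] [Module A M]
  [AddCommGroup N] [Module A N]

/-- A linear map killing a neighbourhood of zero, to a discrete module, is continuous. -/
theorem continuous_of_kills [TopologicalSpace N] [IsTopologicalAddGroup N] {E : Type*}
    [AddCommGroup E] [Module A E] [TopologicalSpace E] [DiscreteTopology E] (f : N →ₗ[A] E)
    {U : Set N} (hU : U ∈ 𝓝 (0 : N)) (h : ∀ x ∈ U, f x = 0) : Continuous f := by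
  refine continuous_of_continuousAt_zero f.toAddMonoidHom ?_
  rw [ContinuousAt, nhds_discrete E, tendsto_pure]
  exact Filter.mem_of_superset hU fun x hx ↦ (h x hx).trans f.map_zero.symm

/-- Linear maps respect `J • ⊤`. -/
theorem map_smul_top_mem (f : M →ₗ[A] N) (J : Ideal A) {x : M}
    (hx : x ∈ (J • ⊤ : Submodule A M)) : f x ∈ (J • ⊤ : Submodule A N) :=
  (Submodule.smul_top_le_comap_smul_top J f) hx

/-- `J` kills a quotient by `J • ⊤`. -/
theorem smul_quot_eq_zero (J : Ideal A) {a : A} (ha : a ∈ J)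
    (y : M ⧸ (J • ⊤ : Submodule A M)) : a • y = 0 := by
  obtain ⟨y, rfl⟩ := Submodule.Quotient.mk_surjective _ y
  rw [← Submodule.Quotient.mk_smul, Submodule.Quotient.mk_eq_zero]
  exact Submodule.smul_mem_smul ha trivial

/-- A map to a quotient by `J • ⊤` kills `J • ⊤`. -/
theorem kills (J : Ideal A) (f : N →ₗ[A] M ⧸ (J • ⊤ : Submodule A M)) {x : N}
    (hx : x ∈ (J • ⊤ : Submodule A N)) : f x = 0 := by
  refine Submodule.smul_induction_on hx (fun a ha y _ ↦ ?_) fun y z hy hz ↦ by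
    rw [map_add, hy, hz, add_zero]
  rw [map_smul, smul_quot_eq_zero J ha]

section Top

variable [TopologicalSpace A] [TopologicalSpace M] [TopologicalSpace N]

/-- EGA 0, 19.1: formal left invertibility is left invertibility modulo each open ideal. -/
theorem fli_iff (hM : IsDeduced A M) (hN : IsDeduced A N) (u : M →L[A] N) :
    IsFormallyLeftInvertible u ↔
      ∀ J : Ideal A, IsOpen (J : Set A) →
        ∃ w : N →ₗ[A] M ⧸ (J • ⊤ : Submodule A M), ∀ x : M, w (u x) = Submodule.Quotient.mk x := by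
  haveI := hM.1; haveI := hN.1
  refine ⟨fun h J hJ ↦ ?_, fun h E _ _ _ _ v ↦ ?_⟩
  · letI : TopologicalSpace (M ⧸ (J • ⊤ : Submodule A M)) := ⊥
    haveI : DiscreteTopology (M ⧸ (J • ⊤ : Submodule A M)) := ⟨rfl⟩
    obtain ⟨w, hw⟩ := h (M ⧸ (J • ⊤ : Submodule A M))
      ⟨(J • ⊤ : Submodule A M).mkQ, continuous_of_kills _ (hM.2.mem_of_mem hJ) fun x hx ↦
        (Submodule.Quotient.mk_eq_zero _).2 hx⟩
    exact ⟨w.toLinearMap, hw⟩
  · have hk : {x | v x = 0} ∈ 𝓝 (0 : M) :=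
      v.continuous.continuousAt.preimage_mem_nhds (t := {0})
        (by rw [map_zero, nhds_discrete E]; exact Filter.mem_pure.2 rfl)
    obtain ⟨J, hJ, hJv⟩ := hM.2.mem_iff.1 hk
    obtain ⟨w, hw⟩ := h J hJ
    let v' := (J • ⊤ : Submodule A M).liftQ v.toLinearMap fun x hx ↦ hJv hx
    exact ⟨⟨v' ∘ₗ w, continuous_of_kills _ (hN.2.mem_of_mem hJ) fun x hx ↦ by
      change v' (w x) = 0
      rw [kills J w hx, map_zero]⟩, fun x ↦ by
      change v' (w (u x)) = v x
      rw [hw]; rfl⟩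

end Top

/-- The lifting property of a module projective modulo `J`, for `A`-linear maps. -/
theorem exists_lift_of_projective {P Q C : Type*} [AddCommGroup P] [Module A P] [AddCommGroup Q]
    [Module A Q] [AddCommGroup C] [Module A C] (J : Ideal A) [Module (A ⧸ J) C]
    [IsScalarTower A (A ⧸ J) C] [Module.Projective (A ⧸ J) C]
    (hP : ∀ a ∈ J, ∀ y : P, a • y = 0) (ρ : P →ₗ[A] Q) (hρ : Function.Surjective ρ)
    (g : C →ₗ[A] Q) : ∃ l : C →ₗ[A] P, ρ ∘ₗ l = g := by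
  letI : Module (A ⧸ J) P := Module.IsTorsionBySet.module fun y a ↦ hP a a.2 y
  haveI : IsScalarTower A (A ⧸ J) P := ⟨fun a b y ↦ by
    obtain ⟨b, rfl⟩ := Ideal.Quotient.mk_surjective b
    change (Ideal.Quotient.mk J (a * b)) • y = a • (Ideal.Quotient.mk J b) • y
    exact mul_smul a b y⟩
  have hQ : ∀ a ∈ J, ∀ y : Q, a • y = 0 := fun a ha y ↦ by
    obtain ⟨x, rfl⟩ := hρ y
    rw [← map_smul, hP a ha, map_zero]
  letI : Module (A ⧸ J) Q := Module.IsTorsionBySet.module fun y a ↦ hQ a a.2 y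
  haveI : IsScalarTower A (A ⧸ J) Q := ⟨fun a b y ↦ by
    obtain ⟨b, rfl⟩ := Ideal.Quotient.mk_surjective b
    change (Ideal.Quotient.mk J (a * b)) • y = a • (Ideal.Quotient.mk J b) • y
    exact mul_smul a b y⟩
  obtain ⟨l, hl⟩ := Module.projective_lifting_property (R := A ⧸ J)
    (LinearMap.extendScalarsOfSurjective (Ideal.Quotient.mk_surjective (I := J)) ρ)
    (LinearMap.extendScalarsOfSurjective (Ideal.Quotient.mk_surjective (I := J)) g) hρ
  exact ⟨l.restrictScalars A, LinearMap.ext fun c ↦ LinearMap.congr_fun hl c⟩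

/-- Lifting a left inverse modulo a nilpotent ideal. -/
theorem exists_lift_leftInverse (u : M →ₗ[A] N) (J L : Ideal A) (n : ℕ) (hn : L ^ n ≤ J)
    (hproj : Module.Projective (A ⧸ J) (N ⧸ (J • ⊤ : Submodule A N)))
    (h : ∃ w : N →ₗ[A] M ⧸ (L • ⊤ : Submodule A M), ∀ x : M, w (u x) = Submodule.Quotient.mk x) :
    ∃ w : N →ₗ[A] M ⧸ (J • ⊤ : Submodule A M), ∀ x : M, w (u x) = Submodule.Quotient.mk x := by
  obtain ⟨w₀, hw₀⟩ := h
  let K : Submodule A M := (L • ⊤) ⊔ (J • ⊤)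
  let r : (M ⧸ (L • ⊤ : Submodule A M)) →ₗ[A] M ⧸ K :=
    (L • ⊤ : Submodule A M).mapQ K LinearMap.id fun x hx ↦ Submodule.mem_sup_left hx
  let q : (M ⧸ (J • ⊤ : Submodule A M)) →ₗ[A] M ⧸ K :=
    (J • ⊤ : Submodule A M).mapQ K LinearMap.id fun x hx ↦ Submodule.mem_sup_right hx
  have hq : Function.Surjective q := fun y ↦ by
    obtain ⟨x, rfl⟩ := Submodule.Quotient.mk_surjective _ y
    exact ⟨Submodule.Quotient.mk x, rfl⟩
  let g : (N ⧸ (J • ⊤ : Submodule A N)) →ₗ[A] M ⧸ K :=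
    (J • ⊤ : Submodule A N).liftQ (r ∘ₗ w₀) (Submodule.smul_le.2 fun a ha y _ ↦ by
      obtain ⟨x, hx⟩ := Submodule.Quotient.mk_surjective _ (r (w₀ y))
      rw [LinearMap.mem_ker, map_smul, LinearMap.comp_apply, ← hx, ← Submodule.Quotient.mk_smul,
        Submodule.Quotient.mk_eq_zero]
      exact Submodule.mem_sup_right (Submodule.smul_mem_smul ha trivial))
  obtain ⟨l, hl⟩ := exists_lift_of_projective J (fun a ha y ↦ smul_quot_eq_zero J ha y) q hq g
  let w₁ : N →ₗ[A] M ⧸ (J • ⊤ : Submodule A M) :=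
    l ∘ₗ (J • ⊤ : Submodule A N).mkQ
  have hw₁ : ∀ y, q (w₁ y) = r (w₀ y) := fun y ↦
    LinearMap.congr_fun hl (Submodule.Quotient.mk y)
  -- the correction
  let e : (M ⧸ (J • ⊤ : Submodule A M)) →ₗ[A] M ⧸ (J • ⊤ : Submodule A M) :=
    (J • ⊤ : Submodule A M).liftQ (w₁ ∘ₗ u) fun x hx ↦ kills J _ hx
  have he : ∀ y, e y - y ∈ (L • ⊤ : Submodule A (M ⧸ (J • ⊤ : Submodule A M))) := by
    intro y
    obtain ⟨x, rfl⟩ := Submodule.Quotient.mk_surjective _ y
    obtain ⟨z, hz⟩ := Submodule.Quotient.mk_surjective _ (w₁ (u x) - Submodule.Quotient.mk x)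
    change w₁ (u x) - Submodule.Quotient.mk x ∈ _
    rw [← hz]
    have : q (Submodule.Quotient.mk z) = 0 := by
      rw [hz, map_sub, hw₁, hw₀]
      exact sub_self _
    obtain ⟨a, ha, b, hb, rfl⟩ := Submodule.mem_sup.1 ((Submodule.Quotient.mk_eq_zero K).1 this)
    rw [Submodule.Quotient.mk_add, (Submodule.Quotient.mk_eq_zero _).2 hb, add_zero]
    exact map_smul_top_mem (Submodule.mkQ _) L ha
  have hpow : ∀ (m : ℕ) (y), ((e - 1) ^ m) y ∈ (L ^ m • ⊤ : Submodule A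
      (M ⧸ (J • ⊤ : Submodule A M))) := by
    intro m
    induction m with
    | zero => intro y; simp
    | succ m ih =>
      intro y
      rw [pow_succ' (e - 1)]
      change (e - 1) (((e - 1) ^ m) y) ∈ (L ^ (m + 1) • ⊤ : Submodule A (M ⧸ (J • ⊤ : Submodule A M)))
      refine Submodule.smul_induction_on (ih y) (fun a ha z _ ↦ ?_) fun z z' hz hz' ↦ by
        rw [map_add]; exact add_mem hz hz'
      rw [map_smul, pow_succ, ← smul_eq_mul, Submodule.smul_assoc]
      exact Submodule.smul_mem_smul ha (he z)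
  have hnil : IsNilpotent (e - 1) := ⟨n, LinearMap.ext fun y ↦ by
    rw [LinearMap.zero_apply]
    refine Submodule.smul_induction_on (hpow n y) (fun a ha z _ ↦ smul_quot_eq_zero J (hn ha) z)
      fun z z' hz hz' ↦ by rw [hz, hz', add_zero]⟩
  obtain ⟨e', he'⟩ : IsUnit e := by
    simpa using hnil.isUnit_one_add
  refine ⟨(e'⁻¹ : _ˣ).val ∘ₗ w₁, fun x ↦ ?_⟩
  change (e'⁻¹ : _ˣ).val (w₁ (u x)) = _
  rw [show w₁ (u x) = e'.val (Submodule.Quotient.mk x) by rw [he']; rfl]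
  exact LinearMap.congr_fun e'.inv_val (Submodule.Quotient.mk x)

/-- Left inverses modulo a decreasing sequence of ideals lift to a compatible family. -/
theorem exists_compatible (u : M →ₗ[A] N) (𝔍 : ℕ → Ideal A) (h𝔍 : Antitone 𝔍)
    (hcoker : ∀ n, Module.Projective (A ⧸ 𝔍 n)
      ((N ⧸ LinearMap.range u) ⧸ (𝔍 n • (⊤ : Submodule A (N ⧸ LinearMap.range u)))))
    (h : ∀ n, ∃ w : N →ₗ[A] M ⧸ (𝔍 n • ⊤ : Submodule A M),
      ∀ x : M, w (u x) = Submodule.Quotient.mk x) :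
    ∃ w : ∀ n, N →ₗ[A] M ⧸ (𝔍 n • ⊤ : Submodule A M),
      (∀ n x, w n (u x) = Submodule.Quotient.mk x) ∧
      ∀ n y, Submodule.factor (Submodule.smul_mono_left (h𝔍 (Nat.le_succ n))) (w (n + 1) y) =
        w n y := by
  choose w' hw' using h
  have step : ∀ n (w : N →ₗ[A] M ⧸ (𝔍 n • ⊤ : Submodule A M)),
      (∀ x, w (u x) = Submodule.Quotient.mk x) →
      ∃ w₁ : N →ₗ[A] M ⧸ (𝔍 (n + 1) • ⊤ : Submodule A M),
        (∀ x, w₁ (u x) = Submodule.Quotient.mk x) ∧
          ∀ y, Submodule.factor (Submodule.smul_mono_left (h𝔍 (Nat.le_succ n))) (w₁ y) = w y := by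
    intro n w hw
    let ρ : (M ⧸ (𝔍 (n + 1) • ⊤ : Submodule A M)) →ₗ[A] M ⧸ (𝔍 n • ⊤ : Submodule A M) :=
      Submodule.factor (Submodule.smul_mono_left (h𝔍 (Nat.le_succ n)))
    let d : (N ⧸ LinearMap.range u) →ₗ[A] M ⧸ (𝔍 n • ⊤ : Submodule A M) :=
      (LinearMap.range u).liftQ (w - ρ ∘ₗ w' (n + 1)) (by
        rintro _ ⟨x, rfl⟩
        rw [LinearMap.mem_ker, LinearMap.sub_apply, LinearMap.comp_apply, hw, hw']
        exact sub_self _)
    let g : ((N ⧸ LinearMap.range u) ⧸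
        (𝔍 (n + 1) • (⊤ : Submodule A (N ⧸ LinearMap.range u)))) →ₗ[A]
        M ⧸ (𝔍 n • ⊤ : Submodule A M) :=
      Submodule.liftQ _ d (Submodule.smul_le.2 fun a ha y _ ↦ by
        rw [LinearMap.mem_ker, map_smul, smul_quot_eq_zero (𝔍 n) (h𝔍 (Nat.le_succ n) ha)])
    haveI := hcoker (n + 1)
    obtain ⟨l, hl⟩ := exists_lift_of_projective (𝔍 (n + 1))
      (fun a ha y ↦ smul_quot_eq_zero (𝔍 (n + 1)) ha y) ρ (Submodule.factor_surjective _) g
    refine ⟨w' (n + 1) + l ∘ₗ Submodule.mkQ _ ∘ₗ (LinearMap.range u).mkQ,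
      fun x ↦ ?_, fun y ↦ ?_⟩
    · simp only [LinearMap.add_apply, LinearMap.comp_apply, hw', Submodule.mkQ_apply]
      rw [(Submodule.Quotient.mk_eq_zero (LinearMap.range u)).2 ⟨x, rfl⟩]
      simp
    · have e := LinearMap.congr_fun hl (Submodule.Quotient.mk (Submodule.Quotient.mk y))
      change ρ (l _) = w y - ρ (w' (n + 1) y) at e
      change ρ (w' (n + 1) y + l _) = w y
      rw [map_add]
      exact (congrArg (ρ (w' (n + 1) y) + ·) e).trans (add_sub_cancel _ _)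
  choose f hf hf' using step
  let W : ∀ n, {w : N →ₗ[A] M ⧸ (𝔍 n • ⊤ : Submodule A M) //
      ∀ x, w (u x) = Submodule.Quotient.mk x} := fun n ↦
    Nat.rec ⟨w' 0, hw' 0⟩ (fun n w ↦ ⟨f n w.1 w.2, hf n w.1 w.2⟩) n
  exact ⟨fun n ↦ (W n).1, fun n ↦ (W n).2, fun n y ↦ hf' n (W n).1 (W n).2 y⟩

/-- A left inverse on a complete module from compatible ones modulo a fundamental sequence. -/
theorem exists_leftInverse {M : Type v} [AddCommGroup M] [Module A M] [UniformSpace M]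
    [IsUniformAddGroup M] [CompleteSpace M] [T2Space M] (u : M →ₗ[A] N) (𝔍 : ℕ → Ideal A)
    (h𝔍 : Antitone 𝔍)
    (hM : (nhds (0 : M)).HasBasis (fun _ : ℕ ↦ True) fun n ↦ ((𝔍 n • ⊤ : Submodule A M) : Set M))
    (w : ∀ n, N →ₗ[A] M ⧸ (𝔍 n • ⊤ : Submodule A M))
    (hw : ∀ n x, w n (u x) = Submodule.Quotient.mk x)
    (hc : ∀ n y, Submodule.factor (Submodule.smul_mono_left (h𝔍 (Nat.le_succ n))) (w (n + 1) y) =
      w n y) :
    ∃ w' : N →ₗ[A] M, ∀ x : M, w' (u x) = x := by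
  let S : ℕ → Submodule A M := fun n ↦ 𝔍 n • ⊤
  have hS : Antitone S := fun i j h ↦ Submodule.smul_mono_left (h𝔍 h)
  have hclosed : ∀ n, IsClosed (S n : Set M) := fun n ↦
    (S n).toAddSubgroup.isClosed_of_isOpen
      ((S n).toAddSubgroup.isOpen_of_mem_nhds (hM.mem_of_mem (i := n) trivial))
  have hzero : ∀ x : M, (∀ n, x ∈ S n) → x = 0 := fun x hx ↦ by
    by_contra hne
    obtain ⟨n, -, hn⟩ := hM.mem_iff.1 (compl_singleton_mem_nhds (Ne.symm hne))
    exact hn (hx n) rfl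
  have key : ∀ y, ∃ m : M, ∀ n, Submodule.Quotient.mk m = w n y := by
    intro y
    choose f hf using fun n ↦ Submodule.Quotient.mk_surjective (S n) (w n y)
    have hstep : ∀ n k, f (n + k) - f n ∈ S n := by
      intro n k
      induction k with
      | zero => simp
      | succ k ih =>
        have h1 : f (n + k + 1) - f (n + k) ∈ S (n + k) := by
          rw [← Submodule.Quotient.eq, hf, ← hc (n + k) y, ← hf (n + k + 1)]
          rfl
        have := add_mem (hS (Nat.le_add_right n k) h1) ih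
        simpa [← add_assoc] using this
    have hcau : CauchySeq f := by
      rw [CauchySeq, (hM.uniformity_of_nhds_zero).cauchy_iff]
      refine ⟨inferInstance, fun n _ ↦ ⟨f '' Set.Ici n, Filter.image_mem_map (Filter.Ici_mem_atTop n), ?_⟩⟩
      rintro _ ⟨i, hi, rfl⟩ _ ⟨j, hj, rfl⟩
      change f j - f i ∈ S n
      obtain ⟨a, rfl⟩ := Nat.exists_eq_add_of_le (Set.mem_Ici.1 hi)
      obtain ⟨b, rfl⟩ := Nat.exists_eq_add_of_le (Set.mem_Ici.1 hj)
      simpa using sub_mem (hstep n b) (hstep n a)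
    obtain ⟨m, hm⟩ := cauchySeq_tendsto_of_complete hcau
    refine ⟨m, fun n ↦ ?_⟩
    rw [← hf n, Submodule.Quotient.eq]
    refine (hclosed n).mem_of_tendsto (hm.sub_const (f n)) ?_
    exact Filter.eventually_atTop.2 ⟨n, fun i hi ↦ by
      obtain ⟨a, rfl⟩ := Nat.exists_eq_add_of_le hi
      exact hstep n a⟩
  choose φ hφ using key
  have hu : ∀ m m' : M, (∀ n, Submodule.Quotient.mk (p := S n) m = Submodule.Quotient.mk m') →
      m = m' :=
    fun m m' h ↦ sub_eq_zero.1 (hzero _ fun n ↦ (Submodule.Quotient.eq _).1 (h n))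
  refine ⟨{ toFun := φ, map_add' := fun y z ↦ hu _ _ fun n ↦ ?_,
            map_smul' := fun a y ↦ hu _ _ fun n ↦ ?_ }, fun x ↦ hu _ _ fun n ↦ ?_⟩
  · rw [hφ, map_add, Submodule.Quotient.mk_add, hφ, hφ]
  · rw [hφ, map_smul, RingHom.id_apply, Submodule.Quotient.mk_smul, hφ]
  · exact (hφ _ n).trans (hw n x)

/-- Direct factor: the cokernel modulo `J` is projective. -/
theorem coker_projective (u : M →ₗ[A] N) (J : Ideal A)
    (hproj : Module.Projective (A ⧸ J) (N ⧸ (J • ⊤ : Submodule A N)))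
    (w : N →ₗ[A] M ⧸ (J • ⊤ : Submodule A M)) (hw : ∀ x, w (u x) = Submodule.Quotient.mk x) :
    Module.Projective (A ⧸ J)
      ((N ⧸ LinearMap.range u) ⧸ (J • (⊤ : Submodule A (N ⧸ LinearMap.range u)))) := by
  let C := (N ⧸ LinearMap.range u) ⧸ (J • (⊤ : Submodule A (N ⧸ LinearMap.range u)))
  let π : (N ⧸ (J • ⊤ : Submodule A N)) →ₗ[A] C :=
    (J • ⊤ : Submodule A N).mapQ _ (LinearMap.range u).mkQ
      fun x hx ↦ map_smul_top_mem _ J hx
  let ū : (M ⧸ (J • ⊤ : Submodule A M)) →ₗ[A] N ⧸ (J • ⊤ : Submodule A N) :=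
    (J • ⊤ : Submodule A M).mapQ _ u fun x hx ↦ map_smul_top_mem u J hx
  let t : N →ₗ[A] N ⧸ (J • ⊤ : Submodule A N) := (J • ⊤ : Submodule A N).mkQ - ū ∘ₗ w
  have ht : ∀ x, t (u x) = 0 := fun x ↦ by
    simp [t, ū, hw]
  let s : C →ₗ[A] N ⧸ (J • ⊤ : Submodule A N) :=
    Submodule.liftQ _ ((LinearMap.range u).liftQ t (by rintro _ ⟨x, rfl⟩; exact ht x))
      (fun x hx ↦ kills J _ hx)
  have hπs : ∀ c, π (s c) = c := by
    intro c
    obtain ⟨c, rfl⟩ := Submodule.Quotient.mk_surjective _ c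
    obtain ⟨y, rfl⟩ := Submodule.Quotient.mk_surjective _ c
    change π (Submodule.Quotient.mk y - ū (w y)) = _
    obtain ⟨z, hz⟩ := Submodule.Quotient.mk_surjective _ (w y)
    rw [map_sub, ← hz]
    change Submodule.Quotient.mk (Submodule.Quotient.mk y) -
      Submodule.Quotient.mk (Submodule.Quotient.mk (u z)) = _
    rw [(Submodule.Quotient.mk_eq_zero (LinearMap.range u)).2 ⟨z, rfl⟩]
    simp
  exact Module.Projective.of_split
    (LinearMap.extendScalarsOfSurjective (Ideal.Quotient.mk_surjective (I := J)) s)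
    (LinearMap.extendScalarsOfSurjective (Ideal.Quotient.mk_surjective (I := J)) π)
    (LinearMap.ext hπs)

/-- For a deduced topology a fundamental sequence of open ideals gives one of submodules. -/
theorem hasBasis_seq [TopologicalSpace A] [TopologicalSpace M] (hM : IsDeduced A M) (𝔍 : ℕ → Ideal A)
    (h𝔍open : ∀ n, IsOpen (𝔍 n : Set A))
    (h𝔍basis : (nhds (0 : A)).HasBasis (fun _ : ℕ => True) (fun n => (𝔍 n : Set A))) :
    (nhds (0 : M)).HasBasis (fun _ : ℕ ↦ True) fun n ↦ ((𝔍 n • ⊤ : Submodule A M) : Set M) :=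
  hM.2.to_hasBasis (fun J hJ ↦ by
    obtain ⟨n, -, hn⟩ := h𝔍basis.mem_iff.1 (hJ.mem_nhds J.zero_mem)
    exact ⟨n, trivial, (Submodule.smul_mono_left hn : (𝔍 n • ⊤ : Submodule A M) ≤ J • ⊤)⟩)
    fun n _ ↦ ⟨𝔍 n, h𝔍open n, subset_rfl⟩

end Groth.Agent.Lib.TopModFLI
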